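import Cfsg.Agent.H539.Lim.DefsZ

/-!
# GA1 (S5242): facts on the Thompson subgroup
-/

set_option autoImplicit false

namespace Cfsg.Agent.H835.Lim

open Cfsg.Agent.H539.Lim

universe u

variable {G : Type u} [Group G]

theorem bdd_dmax [Finite G] (P : Subgroup G) :
    BddAbove {n : ℕ | ∃ A : Subgroup G, A ≤ P ∧ IsAb A ∧ Nat.card A = n} :=
  ⟨Nat.card G, by rintro n ⟨A, -, -, rfl⟩; exact Subgroup.card_le_card_group A⟩

theorem le_dmax [Finite G] {P A : Subgroup G} (h : A ≤ P) (hA : IsAb A) : Nat.card A ≤ dmax P :=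
  le_csSup (bdd_dmax P) ⟨A, h, hA, rfl⟩

theorem exists_dmax [Finite G] (P : Subgroup G) : ∃ A ≤ P, IsAb A ∧ Nat.card A = dmax P := by
  have h : dmax P ∈ {n : ℕ | ∃ A : Subgroup G, A ≤ P ∧ IsAb A ∧ Nat.card A = n} :=
    Nat.sSup_mem ⟨1, ⊥, bot_le, (by
      intro a ha b hb
      rw [Subgroup.mem_bot.1 ha, Subgroup.mem_bot.1 hb]), Subgroup.card_bot⟩ (bdd_dmax P)
  obtain ⟨A, h1, h2, h3⟩ := h
  exact ⟨A, h1, h2, h3⟩

theorem dmax_mono [Finite G] {P Q : Subgroup G} (h : P ≤ Q) : dmax P ≤ dmax Q := by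
  obtain ⟨A, h1, h2, h3⟩ := exists_dmax P
  rw [← h3]
  exact le_dmax (h1.trans h) h2

theorem JT_le [Finite G] (P : Subgroup G) : JT P ≤ P := sSup_le fun _ hA => hA.1

theorem le_JT {P A : Subgroup G} (h : A ≤ P) (hA : IsAb A) (hc : Nat.card A = dmax P) : A ≤ JT P :=
  le_sSup ⟨h, hA, hc⟩

theorem JT_mono [Finite G] {P Q : Subgroup G} (h : P ≤ Q) (hd : dmax P = dmax Q) : JT P ≤ JT Q :=
  sSup_le fun _ hA => le_sSup ⟨hA.1.trans h, hA.2.1, hA.2.2.trans hd⟩

theorem dmax_of_JT_le [Finite G] {P Q : Subgroup G} (h1 : JT P ≤ Q) (h2 : Q ≤ P) : dmax Q = dmax P := by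
  apply le_antisymm (dmax_mono h2)
  obtain ⟨A, h3, h4, h5⟩ := exists_dmax P
  rw [← h5]
  exact le_dmax ((le_JT h3 h4 h5).trans h1) h4

theorem JT_JT [Finite G] (P : Subgroup G) : JT (JT P) = JT P ∧ dmax (JT P) = dmax P := by
  have hd := dmax_of_JT_le (P := P) le_rfl (JT_le P)
  refine ⟨le_antisymm (JT_le _) ?_, hd⟩
  exact sSup_le fun A hA => le_sSup ⟨le_JT hA.1 hA.2.1 hA.2.2, hA.2.1, hA.2.2.trans hd.symm⟩

theorem JT_sandwich [Finite G] {P Q : Subgroup G} (h1 : JT P ≤ Q) (h2 : Q ≤ P) : JT Q = JT P := by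
  have hd := dmax_of_JT_le h1 h2
  apply le_antisymm (JT_mono h2 hd)
  rw [← (JT_JT P).1]
  exact JT_mono h1 ((JT_JT P).2.trans hd.symm)

theorem cj_inv_cj (g : G) (P : Subgroup G) : cj g⁻¹ (cj g P) = P := by
  ext x
  constructor
  · rintro ⟨_, ⟨y, hy, rfl⟩, rfl⟩
    change g⁻¹ * (g * y * g⁻¹) * g⁻¹⁻¹ ∈ P
    have e : g⁻¹ * (g * y * g⁻¹) * g⁻¹⁻¹ = y := by group
    rw [e]
    exact hy
  · intro hx
    refine ⟨_, ⟨x, hx, rfl⟩, ?_⟩
    change g⁻¹ * (g * x * g⁻¹) * g⁻¹⁻¹ = x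
    group

theorem cj_mono (g : G) {P Q : Subgroup G} (h : P ≤ Q) : cj g P ≤ cj g Q := Subgroup.map_mono h

theorem card_cj (g : G) (P : Subgroup G) : Nat.card (cj g P) = Nat.card P :=
  Subgroup.card_map_of_injective (MulAut.conj g).injective

theorem isAb_cj (g : G) {A : Subgroup G} (hA : IsAb A) : IsAb (cj g A) := by
  rintro _ ⟨a, ha, rfl⟩ _ ⟨b, hb, rfl⟩
  rw [← map_mul, ← map_mul, hA a ha b hb]

theorem dmax_conj_le [Finite G] (g : G) (P : Subgroup G) : dmax P ≤ dmax (cj g P) := by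
  obtain ⟨A, h1, h2, h3⟩ := exists_dmax P
  rw [← h3, ← card_cj g A]
  exact le_dmax (cj_mono g h1) (isAb_cj g h2)

theorem dmax_conj [Finite G] (g : G) (P : Subgroup G) : dmax (cj g P) = dmax P := by
  apply le_antisymm _ (dmax_conj_le g P)
  have := dmax_conj_le g⁻¹ (cj g P)
  rwa [cj_inv_cj] at this

theorem JT_conj_le [Finite G] (g : G) (P : Subgroup G) : cj g (JT P) ≤ JT (cj g P) := by
  rw [Subgroup.map_le_iff_le_comap]
  refine sSup_le fun A hA => ?_
  rw [← Subgroup.map_le_iff_le_comap]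
  exact le_JT (cj_mono g hA.1) (isAb_cj g hA.2.1) ((card_cj g A).trans (hA.2.2.trans (dmax_conj g P).symm))

theorem JT_conj [Finite G] (g : G) (P : Subgroup G) : JT (cj g P) = cj g (JT P) ∧ dmax (cj g P) = dmax P := by
  refine ⟨le_antisymm ?_ (JT_conj_le g P), dmax_conj g P⟩
  have h1 := cj_mono g (JT_conj_le g⁻¹ (cj g P))
  rw [cj_inv_cj] at h1
  have h2 := cj_inv_cj g⁻¹ (JT (cj g P))
  rw [inv_inv] at h2
  rwa [h2] at h1

theorem centralizer_JT [Finite G] (P : Subgroup G) (u : G) (hu : u ∈ P) (hc : ∀ v ∈ JT P, u * v = v * u) :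
    u ∈ JT P := by
  obtain ⟨A, h1, h2, h3⟩ := exists_dmax P
  have hA : A ≤ JT P := le_JT h1 h2 h3
  let S : Set G := insert u (A : Set G)
  have hS : S ⊆ Subgroup.centralizer S := by
    intro x hx
    rw [SetLike.mem_coe, Subgroup.mem_centralizer_iff]
    intro y hy
    rcases hx with rfl | hx <;> rcases hy with rfl | hy
    · rfl
    · exact (hc y (hA hy)).symm
    · exact hc x (hA hx)
    · exact h2 y hy x hx
  have hB : IsAb (Subgroup.closure S) := by
    intro a ha b hb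
    have h4 : Subgroup.closure S ≤ Subgroup.centralizer S := (Subgroup.closure_le _).2 hS
    have h5 : Subgroup.closure S ≤ Subgroup.centralizer (Subgroup.closure S : Set G) := by
      rw [Subgroup.centralizer_closure]
      exact h4
    exact (Subgroup.mem_centralizer_iff.1 (h5 ha) b hb).symm
  have hBP : Subgroup.closure S ≤ P := by
    rw [Subgroup.closure_le]
    rintro x (rfl | hx)
    · exact hu
    · exact h1 hx
  have hAB : A ≤ Subgroup.closure S := fun x hx => Subgroup.subset_closure (Or.inr hx)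
  have h6 : A = Subgroup.closure S := by
    apply Subgroup.eq_of_le_of_card_ge hAB
    rw [h3]
    exact le_dmax hBP hB
  apply hA
  rw [h6]
  exact Subgroup.subset_closure (Or.inl rfl)

end Cfsg.Agent.H835.Lim
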